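import Groth.Prelude.Def_LiftSq
import Groth.Agent.AlgSt88.Fp

set_option autoImplicit false
set_option maxHeartbeats 400000
set_option backward.isDefEq.respectTransparency false
set_option backward.isDefEq.respectTransparency.types false

/-!
# Unique lifting is stable under composition and base change
-/

universe v₆ u₆ v₅ u₅ v₄ u₄ v₃ u₃ v₂ u₂ v u

open CategoryTheory FibCat

namespace Groth.Agent.H98Theta

variable {C : Type u} [Category.{v} C]
  {𝒜 : BasedCategory.{v₂, u₂} C} {ℬ : BasedCategory.{v₃, u₃} C}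
  {𝒳 : BasedCategory.{v₄, u₄} C} {𝒴 : BasedCategory.{v₅, u₅} C} {𝒵 : BasedCategory.{v₆, u₆} C}
  {j : 𝒜 ⥤ᵇ ℬ}

/-- Components of an equation of 2-morphisms. -/
lemma app_of_eq {F G : 𝒜 ⥤ᵇ 𝒳} {α β : F ⟶ G} (h : α = β) (x : 𝒜.obj) :
    α.toNatTrans.app x = β.toNatTrans.app x := by rw [h]

lemma based_ext {F G : 𝒜 ⥤ᵇ 𝒳} {α β : F ⟶ G}
    (h : ∀ x, α.toNatTrans.app x = β.toNatTrans.app x) : α = β := by
  apply BasedNatTrans.homCategory.ext; ext x; exact h x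

lemma inv_hom_app {F G : 𝒜 ⥤ᵇ 𝒳} (e : F ≅ G) (x : 𝒜.obj) :
    e.inv.toNatTrans.app x ≫ e.hom.toNatTrans.app x = 𝟙 _ := app_of_eq e.inv_hom_id x

lemma hom_inv_app {F G : 𝒜 ⥤ᵇ 𝒳} (e : F ≅ G) (x : 𝒜.obj) :
    e.hom.toNatTrans.app x ≫ e.inv.toNatTrans.app x = 𝟙 _ := app_of_eq e.hom_inv_id x

lemma isIso_hom_of_uniqLift {f : 𝒳 ⥤ᵇ 𝒴} {sq : LiftSq.Sq j f} (h : sq.UniqLift) {d d' : sq.Lift}
    (θ : d ⟶ d') : IsIso θ.hom := by
  obtain ⟨u⟩ := h d' d
  obtain ⟨v⟩ := h d d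
  obtain ⟨w⟩ := h d' d'
  exact ⟨u.default.hom, congrArg LiftSq.Sq.Lift.Hom.hom ((v.uniq (θ ≫ u.default)).trans (v.uniq (𝟙 d)).symm),
    congrArg LiftSq.Sq.Lift.Hom.hom ((w.uniq (u.default ≫ θ)).trans (w.uniq (𝟙 d')).symm)⟩

theorem liftsUniquely_comp {f : 𝒳 ⥤ᵇ 𝒴} {g : 𝒴 ⥤ᵇ 𝒵} (hf : LiftSq.LiftsUniquely j f)
    (hg : LiftSq.LiftsUniquely j g) : LiftSq.LiftsUniquely j (BasedFunctor.comp f g) := by
  intro sq
  let sqg : LiftSq.Sq j g := ⟨BasedFunctor.comp sq.top f, sq.bot, sq.iso⟩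
  refine ⟨?_, fun d₁ d₂ => ?_⟩
  · obtain ⟨d⟩ := (hg sqg).1
    obtain ⟨e⟩ := (hf ⟨sq.top, d.fn, d.isoTop⟩).1
    refine ⟨⟨e.fn, e.isoTop, d.isoBot ≪≫ Groth.Agent.AlgSt88.bRight e.isoBot g, based_ext fun x => ?_⟩⟩
    show (d.isoBot.hom.toNatTrans.app (j.obj x) ≫ g.map (e.isoBot.hom.toNatTrans.app (j.obj x))) ≫
      g.map (f.map (e.isoTop.hom.toNatTrans.app x)) = sq.iso.hom.toNatTrans.app x
    have h1 : e.isoBot.hom.toNatTrans.app (j.obj x) ≫ f.map (e.isoTop.hom.toNatTrans.app x) =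
      d.isoTop.hom.toNatTrans.app x := app_of_eq e.w x
    rw [Category.assoc, ← g.map_comp, h1]
    exact app_of_eq d.w x
  · let D : sq.Lift → sqg.Lift := fun d =>
      ⟨BasedFunctor.comp d.fn f, Groth.Agent.AlgSt88.bRight d.isoTop f, d.isoBot, d.w⟩
    obtain ⟨u⟩ := (hg sqg).2 (D d₁) (D d₂)
    let θ := u.default
    haveI : IsIso θ.hom := isIso_hom_of_uniqLift (hg sqg).2 θ
    let sqf : LiftSq.Sq j f :=
      ⟨sq.top, BasedFunctor.comp d₁.fn f, Groth.Agent.AlgSt88.bRight d₁.isoTop f⟩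
    let e₁ : sqf.Lift := ⟨d₁.fn, d₁.isoTop, Iso.refl _, based_ext fun x => by
      show 𝟙 _ ≫ f.map (d₁.isoTop.hom.toNatTrans.app x) = f.map (d₁.isoTop.hom.toNatTrans.app x)
      rw [Category.id_comp]⟩
    let e₂ : sqf.Lift := ⟨d₂.fn, d₂.isoTop, asIso θ.hom, θ.w_top⟩
    obtain ⟨w⟩ := (hf sqf).2 e₁ e₂
    have key : ∀ h : d₁ ⟶ d₂, BasedCategory.whiskerRight h.hom f = θ.hom := fun h => by
      refine congrArg LiftSq.Sq.Lift.Hom.hom (u.uniq (⟨BasedCategory.whiskerRight h.hom f, ?_, h.w_bot⟩ :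
        D d₁ ⟶ D d₂))
      refine based_ext fun x => ?_
      show f.map (h.hom.toNatTrans.app (j.obj x)) ≫ f.map (d₂.isoTop.hom.toNatTrans.app x) =
        f.map (d₁.isoTop.hom.toNatTrans.app x)
      rw [← f.map_comp]
      exact congrArg f.map (app_of_eq h.w_top x)
    refine ⟨⟨⟨⟨w.default.hom, w.default.w_top, based_ext fun x => ?_⟩⟩, fun h => ?_⟩⟩
    · show d₁.isoBot.hom.toNatTrans.app x ≫ g.map (f.map (w.default.hom.toNatTrans.app x)) =
        d₂.isoBot.hom.toNatTrans.app x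
      have h1 : 𝟙 _ ≫ f.map (w.default.hom.toNatTrans.app x) = θ.hom.toNatTrans.app x :=
        app_of_eq w.default.w_bot x
      rw [Category.id_comp] at h1
      rw [h1]
      exact app_of_eq θ.w_bot x
    · refine LiftSq.Sq.Lift.hom_ext ?_
      have hh : ∀ e : e₁ ⟶ e₂, e.hom = w.default.hom := fun e => congrArg LiftSq.Sq.Lift.Hom.hom (w.uniq e)
      refine hh ⟨h.hom, h.w_top, based_ext fun x => ?_⟩
      show 𝟙 _ ≫ f.map (h.hom.toNatTrans.app x) = θ.hom.toNatTrans.app x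
      rw [Category.id_comp]
      exact app_of_eq (key h) x

variable {𝒴' : BasedCategory.{v₆, u₆} C} {y : 𝒴' ⥤ᵇ 𝒴} {f : 𝒳 ⥤ᵇ 𝒴}

/-- A 2-morphism into a 2-fibre product from its two components. -/
def fpNatHom {Φ Ψ : 𝒜 ⥤ᵇ fp y f}
    (a : BasedFunctor.comp Φ (fpFst y f) ⟶ BasedFunctor.comp Ψ (fpFst y f))
    (b : BasedFunctor.comp Φ (fpSnd y f) ⟶ BasedFunctor.comp Ψ (fpSnd y f))
    (w : ∀ x, y.map (a.toNatTrans.app x) ≫ (Ψ.obj x).obj.iso.hom =
      (Φ.obj x).obj.iso.hom ≫ f.map (b.toNatTrans.app x)) : Φ ⟶ Ψ :=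
  ({ app := fun x => ObjectProperty.homMk ⟨a.toNatTrans.app x, b.toNatTrans.app x, w x⟩
     naturality := fun _ _ g => ObjectProperty.hom_ext _ (Limits.CategoricalPullback.hom_ext
      (a.toNatTrans.naturality g) (b.toNatTrans.naturality g))
     isHomLift' := fun x => by
      haveI h : 𝒴'.p.IsHomLift (𝟙 (𝒜.p.obj x)) (a.toNatTrans.app x) := a.isHomLift' x
      exact IsHomLift.of_fac' (fp y f).p (𝟙 (𝒜.p.obj x)) _ (Φ.w_obj x) (Ψ.w_obj x)
        (IsHomLift.fac' 𝒴'.p (𝟙 (𝒜.p.obj x)) (a.toNatTrans.app x)) } : BasedNatTrans Φ Ψ)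

theorem liftsUniquely_fpFst (hf : LiftSq.LiftsUniquely j f) :
    LiftSq.LiftsUniquely j (fpFst y f) := by
  intro sq
  let sqf : LiftSq.Sq j f := ⟨BasedFunctor.comp sq.top (fpSnd y f), BasedFunctor.comp sq.bot y,
    Groth.Agent.AlgSt88.bRight sq.iso y ≪≫ Groth.Agent.AlgSt88.bLeft sq.top (fpIso y f)⟩
  refine ⟨?_, fun d₁ d₂ => ?_⟩
  · obtain ⟨e⟩ := (hf sqf).1
    refine ⟨⟨fpLift sq.bot e.fn e.isoBot,
      Groth.Agent.AlgSt88.fpNatIso (Φ := BasedFunctor.comp j (fpLift sq.bot e.fn e.isoBot))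
        (Ψ := sq.top) sq.iso e.isoTop (fun x => (app_of_eq e.w x).symm), Iso.refl _, based_ext fun x => ?_⟩⟩
    show 𝟙 _ ≫ sq.iso.hom.toNatTrans.app x = sq.iso.hom.toNatTrans.app x
    rw [Category.id_comp]
  · have hw : ∀ (d : sq.Lift) x, d.isoBot.hom.toNatTrans.app (j.obj x) ≫
        (d.isoTop.hom.toNatTrans.app x).hom.fst = sq.iso.hom.toNatTrans.app x := fun d x => app_of_eq d.w x
    let E : sq.Lift → sqf.Lift := fun d =>
      ⟨BasedFunctor.comp d.fn (fpSnd y f), Groth.Agent.AlgSt88.bRight d.isoTop (fpSnd y f),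
        Groth.Agent.AlgSt88.bRight d.isoBot y ≪≫ Groth.Agent.AlgSt88.bLeft d.fn (fpIso y f),
        based_ext fun x => by
          show (y.map (d.isoBot.hom.toNatTrans.app (j.obj x)) ≫ (d.fn.obj (j.obj x)).obj.iso.hom) ≫
              f.map (d.isoTop.hom.toNatTrans.app x).hom.snd =
            y.map (sq.iso.hom.toNatTrans.app x) ≫ (sq.top.obj x).obj.iso.hom
          rw [Category.assoc, ← hw d x, y.map_comp, Category.assoc]
          exact congrArg (y.map (d.isoBot.hom.toNatTrans.app (j.obj x)) ≫ ·)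
            (d.isoTop.hom.toNatTrans.app x).hom.w.symm⟩
    obtain ⟨u⟩ := (hf sqf).2 (E d₁) (E d₂)
    let θ := u.default
    have hθ : ∀ x, (y.map (d₁.isoBot.hom.toNatTrans.app x) ≫ (d₁.fn.obj x).obj.iso.hom) ≫
        f.map (θ.hom.toNatTrans.app x) = y.map (d₂.isoBot.hom.toNatTrans.app x) ≫ (d₂.fn.obj x).obj.iso.hom :=
      fun x => app_of_eq θ.w_bot x
    let h₀ : d₁.fn ⟶ d₂.fn := fpNatHom (d₁.isoBot.inv ≫ d₂.isoBot.hom) θ.hom fun x => by
      show y.map (d₁.isoBot.inv.toNatTrans.app x ≫ d₂.isoBot.hom.toNatTrans.app x) ≫ _ = _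
      rw [y.map_comp, Category.assoc, ← hθ x, ← Category.assoc, ← Category.assoc, ← y.map_comp,
        inv_hom_app, y.map_id, Category.id_comp]
    refine ⟨⟨⟨⟨h₀, based_ext fun x => ?_, based_ext fun x => ?_⟩⟩, fun h => ?_⟩⟩
    · refine ObjectProperty.hom_ext _ (Limits.CategoricalPullback.hom_ext ?_ (app_of_eq θ.w_top x))
      show (d₁.isoBot.inv.toNatTrans.app (j.obj x) ≫ d₂.isoBot.hom.toNatTrans.app (j.obj x)) ≫
        (d₂.isoTop.hom.toNatTrans.app x).hom.fst = (d₁.isoTop.hom.toNatTrans.app x).hom.fst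
      rw [Category.assoc, hw d₂ x, ← hw d₁ x, ← Category.assoc, inv_hom_app, Category.id_comp]
    · show d₁.isoBot.hom.toNatTrans.app x ≫
        (d₁.isoBot.inv.toNatTrans.app x ≫ d₂.isoBot.hom.toNatTrans.app x) = _
      rw [← Category.assoc, hom_inv_app, Category.id_comp]
    · have hb : ∀ x, d₁.isoBot.hom.toNatTrans.app x ≫ (h.hom.toNatTrans.app x).hom.fst =
          d₂.isoBot.hom.toNatTrans.app x := fun x => app_of_eq h.w_bot x
      have hsnd : BasedCategory.whiskerRight h.hom (fpSnd y f) = θ.hom := by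
        refine congrArg LiftSq.Sq.Lift.Hom.hom (u.uniq (⟨BasedCategory.whiskerRight h.hom (fpSnd y f),
          based_ext fun x => ?_, based_ext fun x => ?_⟩ : E d₁ ⟶ E d₂))
        · exact congrArg (fun t => t.hom.snd) (app_of_eq h.w_top x)
        · show (y.map (d₁.isoBot.hom.toNatTrans.app x) ≫ (d₁.fn.obj x).obj.iso.hom) ≫
              f.map (h.hom.toNatTrans.app x).hom.snd =
            y.map (d₂.isoBot.hom.toNatTrans.app x) ≫ (d₂.fn.obj x).obj.iso.hom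
          rw [Category.assoc, ← hb x, y.map_comp, Category.assoc]
          exact congrArg (y.map (d₁.isoBot.hom.toNatTrans.app x) ≫ ·) (h.hom.toNatTrans.app x).hom.w.symm
      refine LiftSq.Sq.Lift.hom_ext (based_ext fun x => ObjectProperty.hom_ext _
        (Limits.CategoricalPullback.hom_ext ?_ (app_of_eq hsnd x)))
      show (h.hom.toNatTrans.app x).hom.fst =
        d₁.isoBot.inv.toNatTrans.app x ≫ d₂.isoBot.hom.toNatTrans.app x
      rw [← hb x, ← Category.assoc, inv_hom_app, Category.id_comp]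

end Groth.Agent.H98Theta
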